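import Cfsg.Agent.H958.UE.Engine

/-!
# The vertex condition for `chevE8`: data (generated by tools/vtx_cert.py, helper958)
-/

set_option autoImplicit false

namespace Cfsg.Agent.H958.UE.VtxE8

open Cfsg Cfsg.Lie Cfsg.Agent.H958.UE.Engine

/-- the word of `g` -/
def wg : List (ℕ × ℤ) := [(47, 1), (39, 1), (23, 1), (4, 1), (93, 1), (66, 1), (111, 1), (34, 1)]

/-- the word of `h` -/
def wh : List (ℕ × ℤ) := [(195, 1), (128, 1), (163, 1), (216, 1), (134, 1), (210, 1), (239, 1), (185, 1), (221, 1), (18, -1), (221, 1), (201, 1), (38, -1), (201, 1), (37, 1), (202, -1), (37, 1), (90, 1), (149, -1), (90, 1), (166, 1), (73, -1), (166, 1), (96, 1), (143, -1), (96, 1), (211, 1), (28, -1), (211, 1), (28, 1), (211, -1), (28, 1)]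

/-- the coefficients of the cocharacter -/
def ell : List ℤ := [1, 2, -3, 0, 0, 1, 2, -1]

/-- its values on the fundamental roots -/
def nn : List ℤ := [5, 4, -7, 1, -1, 0, 4, -4]

/-- columns of the word `wg` -/
def tg : List (ℕ × List (ℕ × ℤ)) := [
  (247, [(203, 1), (240, 1), (120, 1), (195, -1), (39, 1), (105, -1), (10, 1), (33, -1), (7, -1), (6, -1), (5, -2), (4, -2), (3, -2), (2, -2), (1, -1), (0, -1), (55, -1), (200, 1), (224, -1), (247, 1), (62, 1), (137, -1), (74, -1), (146, 1), (17, -1), (68, -1), (232, -1), (163, -1), (78, -1), (21, 1)]),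
  (246, [(118, -1), (193, -1), (243, 1), (12, -1), (0, -2), (1, -3), (8, -1), (31, -1), (2, -4), (3, -6), (4, -4), (5, -3), (6, -2), (7, -1), (127, -1), (199, 1), (46, -1), (116, -1), (246, 1), (217, -1), (136, -1), (53, -1), (138, 1), (206, -1), (13, 1), (42, -1), (141, 1), (211, 1), (59, 1), (133, -1)]),
  (245, [(222, 1), (245, 1), (150, -1), (216, -1), (60, -1), (135, -1), (15, -1), (52, 1)]),
  (244, [(122, -1), (196, -1), (44, -1), (114, 1), (244, 1), (214, -1), (134, -1), (50, -1), (139, 1), (209, -1), (56, 1), (128, 1)]),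
  (243, [(118, -1), (193, -1), (243, 1), (12, -1), (0, -2), (1, -3), (8, -1), (31, -1), (2, -4), (3, -6), (4, -4), (5, -3), (6, -2), (7, -1), (138, 1), (206, -1), (13, 1), (42, -1)]),
  (242, [(213, 1), (242, 1), (49, -1), (117, -1), (227, -1), (155, 1), (70, -1), (16, -1), (7, 1), (6, 1), (5, 2), (4, 2), (3, 2), (2, 2), (1, 1), (0, 1), (55, 1), (200, -1), (74, 1), (146, -1), (17, 1), (68, 1)]),
  (241, [(234, -1), (177, -1), (92, -1), (23, 1), (107, -1), (179, 1), (241, 1), (111, -1), (125, -1), (45, 1), (222, -1), (150, 1), (60, 1), (15, 1), (96, 1), (174, 1), (24, -1), (90, 1), (112, 1), (190, -1), (140, 1), (58, -1)]),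
  (240, [(203, 1), (240, 1), (120, 1), (195, -1), (39, 1), (105, -1), (10, 1), (33, -1)]),
  (233, [(227, -1), (155, 1), (70, -1), (16, -1), (79, -1), (157, -1), (233, 1), (83, -1), (74, 1), (146, -1), (17, 1), (68, 1), (84, 1), (168, 1)])]

/-- columns of the word `wh` -/
def th : List (ℕ × List (ℕ × ℤ)) := [
  (0, [(2, -1), (206, 1), (211, -1), (193, 1), (199, -1), (243, -1), (246, -1), (203, 1), (3, -1), (136, -1), (238, -1), (226, 1), (218, -1)]),
  (1, [(4, 1), (3, 1), (5, 1), (2, 1), (247, -1), (176, 1), (142, -1), (7, 1), (238, 1), (226, -1), (218, 1), (6, 1), (171, -1), (0, 1)]),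
  (2, [(171, -1), (0, 1), (176, -1), (142, 1), (203, -1), (1, 1), (2, 2), (4, 1), (206, -1), (211, 1), (193, -1), (199, 1), (243, 1), (246, 1), (3, 2), (136, 1)]),
  (3, [(171, 1), (0, -1), (2, -2), (3, -2), (4, -2), (5, -1), (247, 1), (7, -1), (6, -1), (1, -1)]),
  (4, [(0, -1), (2, -1), (203, 1), (3, -2), (236, -1), (224, 1), (4, -1), (5, -1), (6, -1), (1, -1)]),
  (5, [(171, 1), (0, 1), (176, 1), (142, -1), (1, 2), (3, 4), (4, 3), (5, 2), (236, 2), (224, -2), (206, 1), (211, -1), (193, 1), (199, -1), (243, -1), (246, -1), (203, -1), (6, 2), (247, -1), (7, 1), (2, 2)]),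
  (6, [(171, -1), (0, 1), (5, 2), (4, 2), (3, 2), (2, 2), (176, -1), (142, 1), (1, 1), (238, -1), (226, 1), (218, -1), (6, 1), (136, -1), (236, -1), (224, 1), (206, -1), (211, 1), (193, -1), (199, 1), (243, 1), (246, 1)]),
  (7, [(203, 1), (6, -1), (136, 1), (5, -2), (4, -3), (3, -3), (2, -2), (1, -1), (238, 1), (226, -1), (218, 1), (0, -1)]),
  (8, [(210, 1), (39, 1), (240, 1), (106, 1), (101, -1), (203, -1)]),
  (10, [(201, -1), (43, -1), (32, -1), (129, -1)]),
  (12, [(72, -1), (148, -1), (143, -1), (229, 1)]),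
  (13, [(201, -1), (169, 1), (32, -1), (20, -1), (230, -1), (104, 1), (77, -1), (67, -1), (194, -1), (162, 1)]),
  (15, [(43, 1), (136, 1), (104, 1), (207, 1), (211, 1), (199, 1), (246, 1)]),
  (16, [(103, 1), (210, -1), (197, -1)]),
  (17, [(207, -1), (246, -1), (36, 1), (175, 1), (141, -1), (127, 1)]),
  (21, [(69, 1), (201, 1), (169, -1), (158, 1)]),
  (23, [(94, 1), (176, -1), (171, -1), (236, -1)]),
  (24, [(191, 1), (27, -1), (237, 1), (99, 1), (89, 1), (184, 1)]),
  (31, [(124, -1), (204, 1), (210, -1), (192, 1), (197, -1)]),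
  (33, [(130, -1), (115, -1)]),
  (39, [(231, 1), (105, 1), (78, -1), (70, -1), (197, 1), (165, -1)]),
  (42, [(115, -1), (81, -1), (195, -1), (201, -1), (163, 1), (169, 1), (155, -1), (158, -1)]),
  (44, [(176, -1), (238, -1), (22, -1), (98, -1), (100, 1), (92, 1), (187, -1)]),
  (45, [(98, 1), (187, 1), (172, 1), (175, 1), (239, -1), (234, -1)]),
  (46, [(175, 1)]),
  (49, [(105, 1), (210, -1)]),
  (50, [(103, 1), (33, 1), (130, -1), (210, -1), (137, 1), (197, -1), (117, 1), (220, -1)]),
  (52, [(130, 1), (220, 1), (195, -1), (201, -1), (247, 1), (242, 1)]),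
  (53, [(201, -1)]),
  (55, [(211, 1), (41, -1), (175, 1), (141, -1)]),
  (56, [(207, -1), (133, -1), (246, -1), (221, 1), (36, 1), (11, -1), (91, -1), (59, -1), (175, 1), (95, -1), (141, -1), (63, -1), (127, 1), (51, 1), (180, 1), (153, 1)]),
  (58, [(91, 1), (59, 1), (180, -1), (153, -1), (121, 1), (132, 1), (237, -1), (225, 1), (215, -1)]),
  (59, [(132, 1)]),
  (60, [(105, -1), (78, 1), (146, 1), (240, -1), (232, -1)]),
  (62, [(147, -1), (73, -1), (201, 1), (169, -1)]),
  (68, [(120, 1), (129, 1), (236, 1), (224, -1), (213, 1)]),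
  (70, [(145, -1)]),
  (74, [(240, 1), (232, 1), (101, -1), (74, 1)]),
  (78, [(143, -1), (85, -1)]),
  (79, [(106, -1), (208, 1)]),
  (83, [(148, 1), (231, -1)]),
  (84, [(104, -1), (77, 1), (199, -1), (167, 1)]),
  (90, [(109, 1), (185, 1), (191, 1), (177, -1), (180, -1)]),
  (92, [(134, 1), (209, -1), (196, -1), (244, 1)]),
  (96, [(238, -1), (226, 1), (92, 1), (60, 1), (245, -1), (174, 1), (140, -1), (125, 1), (234, -1), (222, 1)]),
  (105, [(198, 1), (166, -1), (156, 1)]),
  (107, [(100, -1), (174, 1), (239, 1)]),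
  (111, [(210, 1), (137, -1), (240, 1), (200, -1), (247, -1)]),
  (112, [(175, -1), (95, 1), (141, 1), (63, 1), (205, -1), (131, 1), (237, 1), (225, -1)]),
  (114, [(88, -1), (94, -1), (188, -1), (178, 1)]),
  (116, [(236, 1)]),
  (117, [(198, -1)]),
  (118, [(239, -1), (96, -1)]),
  (120, [(237, -1), (99, -1), (89, -1), (184, -1)]),
  (122, [(209, 1), (38, -1), (173, -1), (139, 1)]),
  (125, [(173, -1), (139, 1), (202, 1), (208, 1)]),
  (127, [(208, -1)]),
  (128, [(120, 1), (47, -1), (129, 1), (53, 1), (236, 1), (181, -1), (224, -1), (154, -1), (213, 1), (149, -1)]),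
  (133, [(217, -1)]),
  (134, [(145, -1), (71, 1), (198, 1), (166, -1)]),
  (135, [(198, 1), (166, -1), (228, -1), (231, -1)]),
  (136, [(231, 1)]),
  (137, [(229, -1), (159, -1)]),
  (138, [(237, -1), (225, 1), (89, -1), (57, -1)]),
  (139, [(240, 1), (200, -1), (232, 1), (168, 1), (101, -1), (31, 1), (74, 1), (19, 1), (2, -1), (0, -1), (171, 1), (84, -1)]),
  (140, [(2, -1), (0, -1), (171, 1), (84, -1), (193, 1), (199, -1), (161, -1), (167, 1)]),
  (141, [(199, 1), (167, -1)]),
  (146, [(192, -1), (197, 1), (160, 1), (165, -1)]),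
  (150, [(99, 1), (189, -1)]),
  (155, [(172, 1), (175, 1), (239, -1), (234, -1)]),
  (157, [(204, -1), (210, 1), (244, -1)]),
  (163, [(121, 1), (132, 1), (237, -1), (225, 1), (215, -1)]),
  (168, [(195, -1), (201, -1), (163, 1), (169, 1), (242, 1), (233, 1)]),
  (174, [(178, -1), (151, -1), (235, 1), (238, 1), (223, -1), (226, -1), (212, 1), (218, 1)]),
  (177, [(170, -1)]),
  (179, [(188, 1), (235, -1), (238, -1)]),
  (190, [(236, 1), (181, -1), (224, -1), (154, -1), (243, -1), (216, -1), (246, -1), (221, 1)]),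
  (193, [(182, -1), (187, 1)]),
  (195, [(185, -1), (191, -1), (177, 1), (180, 1)]),
  (196, [(123, 1), (134, -1)]),
  (199, [(244, -1)]),
  (200, [(214, -1), (220, 1)]),
  (203, [(245, -1), (174, 1), (140, -1), (125, 1), (234, -1), (222, 1)]),
  (206, [(177, 1), (180, 1), (150, 1), (153, 1)]),
  (209, [(192, -1), (114, 1), (197, 1), (117, -1), (160, 1), (80, 1), (165, -1), (83, -1)]),
  (211, [(242, -1), (233, -1)]),
  (213, [(174, -1), (239, -1)]),
  (214, [(172, -1), (90, 1), (175, -1), (95, 1), (185, -1), (191, -1), (239, 1), (190, -1), (234, 1), (179, 1), (241, 1)]),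
  (216, [(185, -1), (191, -1), (241, 1)]),
  (217, [(237, -1)]),
  (222, [(174, 1), (140, -1)]),
  (224, [(205, 1), (131, -1), (237, -1), (225, 1)]),
  (227, [(202, 1), (208, 1)]),
  (232, [(193, -1), (199, 1), (161, 1), (167, -1)]),
  (233, [(206, -1), (211, 1), (245, -1)]),
  (234, [(186, 1)]),
  (240, [(235, 1), (238, 1), (223, -1), (226, -1), (212, 1), (218, 1)]),
  (241, [(239, 1), (190, -1)]),
  (242, [(235, -1), (238, -1)]),
  (243, [(183, -1), (189, 1)]),
  (244, [(202, -1), (126, 1), (208, -1), (135, -1), (235, 1), (238, 1), (223, -1), (226, -1)]),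
  (245, [(235, 1), (238, 1), (223, -1), (226, -1)]),
  (246, [(245, 1)]),
  (247, [(243, 1), (216, 1), (246, 1), (221, -1)])]

/-- the minors and their constant coefficients -/
def res : List (List ℕ × ℤ) := [
  ([239], 1),
  ([239, 238], -1),
  ([239, 238, 237], -1),
  ([239, 238, 237, 236], -1),
  ([239, 238, 237, 236, 235], 1),
  ([239, 238, 237, 236, 235, 234], 1),
  ([239, 238, 237, 236, 235, 234, 232], 1),
  ([239, 238, 237, 236, 235, 234, 233], -1),
  ([239, 238, 237, 236, 235, 234, 233, 225], -1)]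

set_option maxRecDepth 100000 in
theorem tab_g : tabOK chevE8 wg tg = true := by decide +kernel

/-- a table check in two parts (the kernel frees its memory after every declaration) -/
theorem tabOK_split {D : ChevalleyDatum} {w : List (ℕ × ℤ)} {T : List (ℕ × List (ℕ × ℤ))} (n : ℕ)
    (h1 : tabOK D w (T.take n) = true) (h2 : tabOK D w (T.drop n) = true) : tabOK D w T = true := by
  unfold tabOK at h1 h2 ⊢
  rw [← List.take_append_drop n T, List.all_append, h1, h2]
  rfl

set_option maxRecDepth 100000 in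
theorem tab_h_1a : tabOK chevE8 wh ((th.take 21).take 4) = true := by decide +kernel

set_option maxRecDepth 100000 in
theorem tab_h_1b : tabOK chevE8 wh (((th.take 21).drop 4).take 4) = true := by decide +kernel

set_option maxRecDepth 100000 in
theorem tab_h_1c : tabOK chevE8 wh (((th.take 21).drop 4).drop 4) = true := by decide +kernel

theorem tab_h_1 : tabOK chevE8 wh (th.take 21) = true :=
  tabOK_split 4 tab_h_1a (tabOK_split 4 tab_h_1b tab_h_1c)

set_option maxRecDepth 100000 in
theorem tab_h_2 : tabOK chevE8 wh ((th.drop 21).take 21) = true := by decide +kernel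

set_option maxRecDepth 100000 in
theorem tab_h_3 : tabOK chevE8 wh (((th.drop 21).drop 21).take 21) = true := by decide +kernel

set_option maxRecDepth 100000 in
theorem tab_h_4 : tabOK chevE8 wh ((((th.drop 21).drop 21).drop 21).take 21) = true := by decide +kernel

set_option maxRecDepth 100000 in
theorem tab_h_5 : tabOK chevE8 wh ((((th.drop 21).drop 21).drop 21).drop 21) = true := by decide +kernel

theorem tab_h : tabOK chevE8 wh th = true :=
  tabOK_split 21 tab_h_1 (tabOK_split 21 tab_h_2 (tabOK_split 21 tab_h_3 (tabOK_split 21 tab_h_4 tab_h_5)))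

/-- the check of `cocOK` for the roots of a list -/
def cocL (D : ChevalleyDatum) (ell nn : List ℤ) (L : List ℕ) : Bool :=
  L.all fun r =>
    decide (dot ell ((List.range D.rank).map fun i => D.cartan i r) = dot nn ((List.range D.rank).map fun i =>
      Cfsg.Agent.ChevalleyStructure.RootVec.rt D r i))

theorem cocL_split {D : ChevalleyDatum} {ell nn : List ℤ} {L : List ℕ} (n : ℕ)
    (h1 : cocL D ell nn (L.take n) = true) (h2 : cocL D ell nn (L.drop n) = true) : cocL D ell nn L = true := by
  unfold cocL at h1 h2 ⊢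
  rw [← List.take_append_drop n L, List.all_append, h1, h2]
  rfl

set_option maxRecDepth 100000 in
theorem coc_1 : cocL chevE8 ell nn ((List.range chevE8.nroots).take 80) = true := by decide +kernel

set_option maxRecDepth 100000 in
theorem coc_2 : cocL chevE8 ell nn (((List.range chevE8.nroots).drop 80).take 80) = true := by decide +kernel

set_option maxRecDepth 100000 in
theorem coc_3 : cocL chevE8 ell nn (((List.range chevE8.nroots).drop 80).drop 80) = true := by decide +kernel

theorem coc : cocOK chevE8 ell nn = true :=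
  cocL_split 80 coc_1 (cocL_split 80 coc_2 coc_3)

set_option maxRecDepth 100000 in
theorem min : minOK chevE8 th tg nn res = true := by decide +kernel

end Cfsg.Agent.H958.UE.VtxE8
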